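import Cfsg.Agent.H892.EP.Good
import Cfsg.Agent.Characters.Counting

/-!
# The principal block part of a permutation character (helper164, S4929)

* `sum_eq_index_mul` : `∑_{χ ∈ B} χ(1) ⟨χ_P, 1_P⟩ = |G : P| z`, `z` a local integer, for every block `B`;
* `sum_all` : `∑_χ χ(1) ⟨χ_P, 1_P⟩ = |G : P|`;
* `exists_even` : a permutation character of degree divisible by `p`, whose constituents different from `1` and `χ₀` have
  even degree; if `p ∤ χ₀(1) + 1` then the principal block contains a character of even degree.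
-/

set_option autoImplicit false
set_option linter.unusedSectionVars false

open scoped ComplexConjugate
open Cfsg Cfsg.Agent.Characters.Core Cfsg.Agent.Blocks.Local Cfsg.Agent.H892.EP

namespace Cfsg.Agent.H164.EP

universe u

variable {G : Type u} [Group G] [Finite G] {p : ℕ} [Fact p.Prime] {M : Ideal AlgInt}

omit [Fact p.Prime] in
theorem sum_conj (P : Subgroup G) {χ : G → ℂ} (hχ : IsCharacter G χ) [Fintype P] :
    ∑ h : P, conj (χ h) = Nat.card P * md P χ := by
  obtain ⟨m, hm⟩ := exists_md P hχ
  have h1 : ∑ h : P, χ h = Nat.card P * md P χ := by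
    rw [md_eq, ← mul_assoc, mul_inv_cancel₀ card_ne_zero_complex, one_mul]
  rw [← map_sum, h1, hm, map_mul, Complex.conj_natCast, Complex.conj_natCast]

omit [Fact p.Prime] in
/-- the sum of the coefficients of a block idempotent over a subgroup -/
theorem sum_blockCoeff (B : Set (IrrCharacter G)) (P : Subgroup G) [Fintype P] :
    (P.index : ℂ) * ∑ h : P, blockCoeff B (h : G) = ∑ᶠ χ ∈ B, (χ : G → ℂ) 1 * md P (χ : G → ℂ) := by
  classical
  have : Finite (IrrCharacter G) := finite_irr
  have := Fintype.ofFinite (IrrCharacter G)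
  unfold blockCoeff
  simp only [Blocks.Orthogonality.finsum_mem_eq_sum_filter]
  rw [← Finset.mul_sum, Finset.sum_comm, ← mul_assoc]
  have h2 : (P.index : ℂ) * (Nat.card G : ℂ)⁻¹ = (Nat.card P : ℂ)⁻¹ := by
    have h3 : (Nat.card G : ℂ) = Nat.card P * P.index := by
      rw [← Nat.cast_mul, P.card_mul_index]
    have h4 : (P.index : ℂ) ≠ 0 := by
      rw [Nat.cast_ne_zero]
      exact P.index_ne_zero_of_finite
    have h5 : (Nat.card P : ℂ) ≠ 0 := card_ne_zero_complex
    rw [h3]
    field_simp
  rw [h2, Finset.mul_sum]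
  refine Finset.sum_congr rfl fun χ _ => ?_
  rw [← Finset.mul_sum, sum_conj P (isIrr_isCharacter χ.2)]
  have h5 : (Nat.card P : ℂ) ≠ 0 := card_ne_zero_complex
  field_simp

/-- **The degree of the principal block part of a permutation character.** -/
theorem sum_eq_index_mul (hM : IsPModular p M) (P : Subgroup G) :
    ∃ z : ℂ, MemLocalRing M z ∧
      ∑ᶠ χ ∈ principalBlock M G, (χ : G → ℂ) 1 * md P (χ : G → ℂ) = (P.index : ℂ) * z := by
  have := Fintype.ofFinite P
  refine ⟨∑ h : P, blockCoeff (principalBlock M G) (h : G), ?_, (sum_blockCoeff _ P).symm⟩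
  have := Cfsg.Agent.Blocks.Local.isPrime_of_isPModular hM
  exact memLocalRing_sum fun h _ => coeff_ring hM (h : G)

omit [Fact p.Prime] in
/-- the degree of the permutation character -/
theorem sum_all (P : Subgroup G) [Fintype (IrrCharacter G)] :
    ∑ χ : IrrCharacter G, (χ : G → ℂ) 1 * md P (χ : G → ℂ) = (P.index : ℂ) := by
  classical
  have := Fintype.ofFinite G
  have := Fintype.ofFinite P
  have h1 := sum_blockCoeff (Set.univ : Set (IrrCharacter G)) P
  rw [finsum_mem_univ, finsum_eq_sum_of_fintype] at h1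
  rw [← h1]
  have h2 : ∀ h : P, blockCoeff (Set.univ : Set (IrrCharacter G)) (h : G) = if h = 1 then 1 else 0 := by
    intro h
    unfold blockCoeff
    rw [finsum_mem_univ, finsum_eq_sum_of_fintype]
    have h3 := congrArg conj (Cfsg.Agent.Characters.Counting.sum_irr_one_mul (G := G) (h : G))
    rw [map_sum] at h3
    have h4 : ∑ χ : IrrCharacter G, (χ : G → ℂ) 1 * conj ((χ : G → ℂ) (h : G)) =
        conj (if (h : G) = 1 then (Nat.card G : ℂ) else 0) := by
      rw [← h3]
      refine Finset.sum_congr rfl fun χ _ => ?_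
      obtain ⟨n, _, hn⟩ := isIrr_apply_one χ.2
      rw [map_mul, hn, Complex.conj_natCast]
    rw [h4]
    by_cases h1 : h = 1
    · subst h1
      rw [if_pos (show ((1 : P) : G) = 1 from rfl), if_pos rfl, Complex.conj_natCast,
        inv_mul_cancel₀ card_ne_zero_complex]
    · rw [if_neg h1, if_neg (show ¬ (h : G) = 1 from fun h5 => h1 (Subtype.ext h5)), map_zero, mul_zero]
  rw [Finset.sum_congr rfl fun h _ => h2 h, Finset.sum_ite_eq' Finset.univ (1 : P), if_pos (Finset.mem_univ _), mul_one]

omit [Fact p.Prime] in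
theorem md_one (P : Subgroup G) : md P (oneChar G : G → ℂ) = 1 := by
  have := Fintype.ofFinite P
  rw [md_eq, Finset.sum_const, Finset.card_univ, ← Nat.card_eq_fintype_card, nsmul_eq_mul, mul_one,
    inv_mul_cancel₀ card_ne_zero_complex]

/-- **A character of even degree in the principal block.** -/
theorem exists_even (hM : IsPModular p M) (P : Subgroup G) (hP : p ∣ P.index) (χ₀ : IrrCharacter G) {D : ℕ}
    (hD : (χ₀ : G → ℂ) 1 = D) (h0 : md P (χ₀ : G → ℂ) = 1) (hpD : ¬ p ∣ D + 1)
    (hall : ∀ χ : IrrCharacter G, md P (χ : G → ℂ) ≠ 0 → χ = oneChar G ∨ χ = χ₀ ∨ 2 ∣ charDegree (χ : G → ℂ)) :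
    ∃ χ : IrrCharacter G, χ ∈ principalBlock M G ∧ 2 ∣ charDegree (χ : G → ℂ) := by
  classical
  by_contra hcon
  push Not at hcon
  have : Finite (IrrCharacter G) := finite_irr
  have := Fintype.ofFinite (IrrCharacter G)
  obtain ⟨z, hz, he⟩ := sum_eq_index_mul hM P
  have hone : oneChar G ∈ principalBlock M G := one_mem_block hM
  have key : ∃ N : ℕ, ¬ p ∣ N ∧ ∑ᶠ χ ∈ principalBlock M G, (χ : G → ℂ) 1 * md P (χ : G → ℂ) = N := by
    rw [Blocks.Orthogonality.finsum_mem_eq_sum_filter]
    by_cases hχ : χ₀ ∈ principalBlock M G ∧ χ₀ ≠ oneChar G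
    · refine ⟨D + 1, hpD, ?_⟩
      rw [← Finset.sum_subset (s₁ := {oneChar G, χ₀})]
      · rw [Finset.sum_pair hχ.2.symm, md_one, h0, hD]
        push_cast
        ring
      · intro χ h
        rw [Finset.mem_insert, Finset.mem_singleton] at h
        rw [Finset.mem_filter]
        rcases h with rfl | rfl
        · exact ⟨Finset.mem_univ _, hone⟩
        · exact ⟨Finset.mem_univ _, hχ.1⟩
      · intro χ h1 h2
        rw [Finset.mem_insert, Finset.mem_singleton, not_or] at h2
        by_cases h3 : md P (χ : G → ℂ) = 0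
        · rw [h3, mul_zero]
        · rcases hall χ h3 with h4 | h4 | h4
          · exact absurd h4 h2.1
          · exact absurd h4 h2.2
          · exact absurd h4 (hcon χ (Finset.mem_filter.1 h1).2)
    · refine ⟨1, fun h => (Fact.out : p.Prime).one_lt.ne' (Nat.dvd_one.1 h), ?_⟩
      rw [Finset.sum_eq_single (oneChar G)]
      · rw [md_one]
        simp
      · intro χ h1 h2
        by_cases h3 : md P (χ : G → ℂ) = 0
        · rw [h3, mul_zero]
        · rcases hall χ h3 with h4 | h4 | h4
          · exact absurd h4 h2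
          · subst h4
            exact absurd ⟨(Finset.mem_filter.1 h1).2, h2⟩ hχ
          · exact absurd h4 (hcon χ (Finset.mem_filter.1 h1).2)
      · intro h
        exact absurd (Finset.mem_filter.2 ⟨Finset.mem_univ _, hone⟩) h
  obtain ⟨N, hN, hs⟩ := key
  apply hN
  have := Cfsg.Agent.Blocks.Local.isPrime_of_isPModular hM
  rw [← memLocalIdeal_natCast_iff hM, ← hs, he]
  exact memLocalIdeal_mul_right ((memLocalIdeal_natCast_iff hM _).2 hP) hz

end Cfsg.Agent.H164.EP
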