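import Cfsg.Agent.H730.Sq.Op
import Cfsg.Agent.H892.EP.Good

/-!
# Spherical functions and fixed vectors (helper164, S4929; after helper730)

`exists_irr_of_spherical'`, `exists_irr_rank'` : the theorems of `H730/Sq/{Sph,Op}.lean` with the additional statement that
the character has a vector fixed by the parabolic subgroup.
-/

set_option autoImplicit false
set_option linter.unusedSectionVars false

open scoped ComplexConjugate
open Cfsg Module

namespace Cfsg.Agent.H164.EP

open Cfsg.Agent.H730.Sq.Sph Cfsg.Agent.H892.EP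

universe u

section sph

variable {G : Type u} [Group G] [Fintype G]

theorem exists_irr_of_spherical' (F : G → ℂ) (h1 : F 1 = 1) (hinv : ∀ g, F g⁻¹ = conj (F g))
    (hs : ∀ x, ∃ c : ℂ, ∀ g, ∑ y, F y * F (x⁻¹ * (y⁻¹ * g)) = c * F g) :
    ∃ χ : IrrCharacter G, (χ : G → ℂ) 1 * ∑ g, F g * F g⁻¹ = Nat.card G ∧
      ∀ P : Subgroup G, (∀ a ∈ P, ∀ g, F (a * g) = F g) → md P (χ : G → ℂ) ≠ 0 := by
  classical
  choose c hc using hs
  -- the form of the hypothesis
  have hc' : ∀ x, ∑ y, F y • lreg G y (lreg G x F) = c x • F := by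
    intro x
    funext g
    rw [Finset.sum_apply]
    exact hc x g
  set c1 : ℂ := ∑ g, F g * F g⁻¹ with hc1
  have e1 : c 1 = c1 := by
    have := hc 1 1
    rw [h1, mul_one] at this
    rw [← this]
    refine Finset.sum_congr rfl fun y _ => ?_
    rw [inv_one, one_mul, mul_one]
  have hne : c1 ≠ 0 := by
    intro h0
    have e2 : ∀ g, F g * F g⁻¹ = ((Complex.normSq (F g) : ℝ) : ℂ) := fun g => by
      rw [hinv, Complex.mul_conj]
    rw [hc1, Finset.sum_congr rfl fun g _ => e2 g, ← Complex.ofReal_sum, Complex.ofReal_eq_zero,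
      Finset.sum_eq_zero_iff_of_nonneg fun g _ => Complex.normSq_nonneg _] at h0
    have e3 := h0 1 (Finset.mem_univ _)
    rw [h1, Complex.normSq_one] at e3
    exact one_ne_zero e3
  have hRF : R F F = c1 • F := by
    rw [R_def, ← e1, ← hc' 1]
    refine Finset.sum_congr rfl fun y _ => ?_
    rw [map_one]; rfl
  have hRR : ∀ f, R F (R F f) = c1 • R F f := by
    intro f
    conv_lhs => rw [R_def F f, map_sum]
    rw [R_def F f, Finset.smul_sum]
    refine Finset.sum_congr rfl fun x _ => ?_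
    rw [map_smul, R_lreg, hRF, map_smul, smul_comm]
  -- the projection
  have hproj : LinearMap.IsProj (LinearMap.range (R F)) (c1⁻¹ • R F) := by
    refine ⟨fun f => ?_, fun f hf => ?_⟩
    · exact Submodule.smul_mem _ _ ⟨f, rfl⟩
    · obtain ⟨f, rfl⟩ := hf
      rw [LinearMap.smul_apply, hRR, smul_smul, inv_mul_cancel₀ hne, one_smul]
  have htr := hproj.trace
  rw [map_smul, trace_R, h1, mul_one, smul_eq_mul] at htr
  -- membership of `F`
  have hFU : F ∈ LinearMap.range (R F) := ⟨c1⁻¹ • F, by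
    rw [map_smul, hRF, smul_smul, inv_mul_cancel₀ hne, one_smul]⟩
  have hF0 : F ≠ 0 := by
    intro h0
    rw [h0] at h1
    exact zero_ne_one h1
  have hirr : (U F).toRepresentation.IsIrreducible := by
    have hnt : Nontrivial (U F).toSubmodule := ⟨⟨⟨F, hFU⟩, 0, fun h => hF0 (congrArg Subtype.val h)⟩⟩
    have : Nontrivial (Subrepresentation (U F).toRepresentation) := by
      refine ⟨⊥, ⊤, fun h => ?_⟩
      have : (⊥ : Submodule ℂ (U F).toSubmodule) = ⊤ := congrArg Subrepresentation.toSubmodule h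
      exact bot_ne_top this
    refine ⟨fun U₁ => ?_⟩
    by_cases hU : U₁.toSubmodule = ⊥
    · left
      exact Subrepresentation.toSubmodule_injective hU
    right
    obtain ⟨⟨f, hf⟩, hf1, hf0⟩ := (Submodule.ne_bot_iff _).1 hU
    have hf0' : f ≠ 0 := fun h => hf0 (Subtype.ext h)
    obtain ⟨a, ha⟩ := hf
    -- `F * y * f` is a multiple of `F`
    have hd : ∀ y, ∑ z, F z • lreg G z (lreg G y f) = (∑ x, a x * c (y * x)) • F := by
      intro y
      have e2 : lreg G y f = ∑ x, a x • lreg G (y * x) F := by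
        rw [← ha, R_def, map_sum]
        refine Finset.sum_congr rfl fun x _ => ?_
        rw [map_smul, lreg_mul]
      simp only [e2, map_sum, map_smul, Finset.smul_sum]
      rw [Finset.sum_comm, Finset.sum_smul]
      refine Finset.sum_congr rfl fun x _ => ?_
      rw [mul_smul, ← hc' (y * x), Finset.smul_sum]
      refine Finset.sum_congr rfl fun z _ => ?_
      rw [smul_comm]
    -- membership in `U₁`
    have hmem : ∀ y, ∃ w ∈ U₁.toSubmodule, (w : G → ℂ) = ∑ z, F z • lreg G z (lreg G y f) := by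
      intro y
      refine ⟨∑ z, F z • (U F).toRepresentation z ((U F).toRepresentation y ⟨f, ⟨a, ha⟩⟩), ?_, ?_⟩
      · refine Submodule.sum_mem _ fun z _ => Submodule.smul_mem _ _ ?_
        exact U₁.apply_mem_toSubmodule z (U₁.apply_mem_toSubmodule y hf1)
      · rw [Submodule.coe_sum]
        rfl
    by_cases hall : ∀ y, (∑ x, a x * c (y * x)) = 0
    · exfalso
      apply hf0'
      have e3 : ∀ y, ∑ z, conj (F (y * z)) * f z = 0 := by
        intro y
        have e4 := congrFun (hd y) 1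
        rw [hall y, zero_smul, Finset.sum_apply] at e4
        have e5 : (0 : G → ℂ) 1 = 0 := rfl
        rw [e5] at e4
        rw [← e4]
        refine Fintype.sum_equiv ((Equiv.mulLeft y).trans (Equiv.inv G)) _ _ fun z => ?_
        rw [Equiv.trans_apply, Equiv.coe_mulLeft, Equiv.inv_apply, Pi.smul_apply, lreg_apply, lreg_apply, mul_one, inv_inv,
          inv_mul_cancel_left, smul_eq_mul, hinv]
      have e6 : ∑ z, conj (f z) * f z = 0 := by
        have e7 : ∀ z, conj (f z) = ∑ x, conj (a x) * conj (F (x⁻¹ * z)) := by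
          intro z
          rw [← ha, Cfsg.Agent.H730.Sq.Sph.R_apply, map_sum]
          simp only [map_mul]
        simp only [e7, Finset.sum_mul]
        rw [Finset.sum_comm]
        refine Finset.sum_eq_zero fun x _ => ?_
        simp only [mul_assoc]
        rw [← Finset.mul_sum, e3, mul_zero]
      have e8 : ∀ z, conj (f z) * f z = ((Complex.normSq (f z) : ℝ) : ℂ) := fun z => by
        rw [mul_comm, Complex.mul_conj]
      rw [Finset.sum_congr rfl fun z _ => e8 z, ← Complex.ofReal_sum, Complex.ofReal_eq_zero,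
        Finset.sum_eq_zero_iff_of_nonneg fun g _ => Complex.normSq_nonneg _] at e6
      funext z
      exact Complex.normSq_eq_zero.1 (e6 z (Finset.mem_univ _))
    · push Not at hall
      obtain ⟨y, hy⟩ := hall
      obtain ⟨w, hw, hwe⟩ := hmem y
      have hF1 : (⟨F, hFU⟩ : (U F).toSubmodule) ∈ U₁.toSubmodule := by
        have e9 : (⟨F, hFU⟩ : (U F).toSubmodule) = (∑ x, a x * c (y * x))⁻¹ • w := by
          apply Subtype.ext
          rw [Submodule.coe_smul, hwe, hd, smul_smul, inv_mul_cancel₀ hy, one_smul]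
        rw [e9]
        exact Submodule.smul_mem _ _ hw
      apply Subrepresentation.toSubmodule_injective
      refine eq_top_iff.2 fun v _ => ?_
      obtain ⟨v, b, hb⟩ := v
      have e10 : (⟨v, ⟨b, hb⟩⟩ : (U F).toSubmodule) = ∑ x, b x • (U F).toRepresentation x ⟨F, hFU⟩ := by
        apply Subtype.ext
        rw [Submodule.coe_sum]
        exact hb.symm
      rw [e10]
      exact Submodule.sum_mem _ fun x _ => Submodule.smul_mem _ _ (U₁.apply_mem_toSubmodule x hF1)
  refine ⟨⟨_, Characters.Core.isIrrCharacter_of_rep _ hirr⟩, ?_, ?_⟩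
  · show (U F).toRepresentation.character 1 * _ = _
    rw [Representation.char_one]
    have e11 : (finrank ℂ (U F).toSubmodule : ℂ) = c1⁻¹ * Nat.card G := htr.symm
    rw [e11, mul_comm, ← mul_assoc, mul_inv_cancel₀ hne, one_mul]
  · intro P hP
    show md P (U F).toRepresentation.character ≠ 0
    rw [md_ne_zero_iff]
    refine ⟨⟨F, hFU⟩, fun h => hF0 (congrArg Subtype.val h), fun a ha => ?_⟩
    apply Subtype.ext
    funext g
    show F (a⁻¹ * g) = F g
    exact hP a⁻¹ (inv_mem ha) g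

end sph

section op

open CoxeterSystem Cfsg.Agent.ChevalleyStructure.CoxeterGeom Cfsg.Agent.Tits.Roots Cfsg.Agent.Tits.Core
  Cfsg.Agent.Tits.Exchange Cfsg.Agent.Nodes.Reps Cfsg.Agent.Nodes.BNOf Cfsg.Agent.Nodes.StabComb
  Cfsg.Agent.Nodes.Bruhat Cfsg.Agent.Nodes.LeviDec Cfsg.Agent.H730.Sq.Typ Cfsg.Agent.H730.Sq.Op

variable {I W : Type*} {Y : Type u} [Fintype I] [DecidableEq I] [Group W] [Group Y] {M : CoxeterMatrix I}
  {cs : CoxeterSystem M W} {A : I → I → ℤ} {h : IsCartan M A} {p : ℕ} {T : Subgroup Y} {n : I → Y}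
  {X : (I → ℤ) → Subgroup Y} {Ω : Type}

variable [Finite W] [Finite Y] (R : RGD cs h p T n X) (hG : GG cs h T X = ⊤) {D : Tab A Ω} {κ : Y → Ω}
  (hκ : IsKap R.nsys cs h X D κ) {q : I → ℂ} (hq : ∀ i, (Nat.card (X (sr i)) : ℂ) = q i)

include hG hκ hq

/-- **An eigenfunction with a simple eigenvalue gives an irreducible character.** -/
theorem exists_irr_rank' [Fintype Y] {i₀ : I} (hi₀ : ∀ i, i ≠ i₀ → pairing A i (D.v D.o) = 0) (hne : D.v D.o ≠ 0)
    (rp : ℤ → Ω) (cw : Ω → List I) (hcw : ∀ k, ∀ i ∈ cw k, i ≠ i₀)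
    (hrp : ∀ k, (cw k).foldr D.σ k = rp (D.v k i₀)) (L : List (List I)) (row : (ℤ → ℂ) → ℤ → ℂ)
    (hrow : ∀ x k, tauL D.σ D.ε q L (fun k => x (D.v k i₀)) k = row x (D.v k i₀))
    (φ : ℤ → ℂ) (θ : ℂ) (h1 : φ (D.v D.o i₀) = 1) (hreal : ∀ l, conj (φ l) = φ l)
    (heig : ∀ k, row φ (D.v k i₀) = θ * φ (D.v k i₀))
    (huniq : ∀ x : ℤ → ℂ, (∀ k, row x (D.v k i₀) = θ * x (D.v k i₀)) →
      ∀ k, x (D.v k i₀) = x (D.v D.o i₀) * φ (D.v k i₀)) :
    ∃ χ : IrrCharacter Y, (χ : Y → ℂ) 1 * ∑ g, φ (D.v (κ g) i₀) ^ 2 = Nat.card Y ∧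
      md (PJ cs h T X (orth cs h (D.v D.o))) (χ : Y → ℂ) ≠ 0 := by
  have := Fintype.ofFinite W
  set F : Y → ℂ := fun g => φ (D.v (κ g) i₀) with hF
  have hJ : ∀ i, i ≠ i₀ → i ∈ orth cs h (D.v D.o) := fun i hi => mem_orth.2 (hi₀ i hi)
  -- the level
  have hσ0 : ∀ i k, i ≠ i₀ → D.v (D.σ i k) i₀ = D.v k i₀ := by
    intro i k hi
    rw [← D.hσ, refl_apply, Pi.sub_apply, Pi.single_apply, if_neg (Ne.symm hi), sub_zero]
  have hlev_n : ∀ g i, i ≠ i₀ → D.v (κ (g * n i)) i₀ = D.v (κ g) i₀ := by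
    intro g i hi
    have h2 := kap_step D R hG hκ i g
    have e : g * n i = g * 1 * n i := by rw [mul_one]
    rcases h2 with ⟨-, h3⟩ | ⟨-, h3⟩ | ⟨-, u₀, hu₀, h3, h4⟩
    · rw [e, h3 1 (one_mem _), hσ0 i _ hi]
    · rw [e, h3 1 (one_mem _)]
    · by_cases h5 : 1 = u₀
      · subst h5
        rw [e, h3, hσ0 i _ hi]
      · rw [e, h4 1 (one_mem _) h5]
  have hFl : ∀ a ∈ PJ cs h T X (orth cs h (D.v D.o)), ∀ g, F (a * g) = F g := by
    intro a ha g
    simp only [hF, kap_mul_left D R hG hκ ha]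
  have hFr : ∀ b ∈ RGD.B cs h T X, ∀ g, F (g * b) = F g := by
    intro b hb g
    simp only [hF, kap_mul_right D R hG hκ hb]
  have hFn : ∀ i, i ≠ i₀ → ∀ g, F (g * n i) = F g := by
    intro i hi g
    simp only [hF, hlev_n g i hi]
  have hTF : TL n X L F = θ • F := by
    have h2 := TL_kap R hG hκ hq L (fun k => φ (D.v k i₀))
    rw [show F = fun g => (fun k => φ (D.v k i₀)) (κ g) from rfl, h2]
    funext g
    rw [hrow, heig]
    rfl
  -- symmetry
  have hsym : ∀ g, F g⁻¹ = F g := by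
    intro g
    obtain ⟨w, hw⟩ := exists_cell R hG g
    have hz : ∀ j, j ≠ i₀ → form cs h (sr j) (D.v D.o) = 0 := by
      intro j hj
      have h2 := two_form cs h j (D.v D.o)
      rw [hi₀ j hj, zero_mul, form_comm] at h2
      omega
    have hf : ∀ x : I → ℤ, form cs h x (D.v D.o) = x i₀ * form cs h (sr i₀) (D.v D.o) := by
      intro x
      have h2 : ∀ s : Finset I, form cs h (∑ j ∈ s, x j • sr j) (D.v D.o) =
          ∑ j ∈ s, x j * form cs h (sr j) (D.v D.o) := by
        classical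
        intro s
        induction s using Finset.induction_on with
        | empty =>
          rw [Finset.sum_empty, Finset.sum_empty, form_comm, form_zero_right]
        | insert a s ha ih => rw [Finset.sum_insert ha, Finset.sum_insert ha, form_add_left, form_smul_left, ih]
      have h3 : x = ∑ j, x j • sr j := by
        funext j
        simp [Finset.sum_apply, sr, Pi.single_apply]
      conv_lhs => rw [h3]
      rw [h2, Finset.sum_eq_single i₀]
      · intro j _ hj
        rw [hz j hj, mul_zero]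
      · intro h4; exact absurd (Finset.mem_univ i₀) h4
    have hc : form cs h (sr i₀) (D.v D.o) ≠ 0 := by
      intro h2
      have h3 := form_pos cs h hne
      rw [hf, h2, mul_zero] at h3
      exact lt_irrefl _ h3
    have h2 : D.v (κ g) i₀ = D.v (κ g⁻¹) i₀ := by
      apply mul_right_cancel₀ hc
      rw [← hf, ← hf, hκ w g hw, hκ _ _ hw.inv, form_rep_left, inv_inv, form_comm]
    simp only [hF, h2]
  have hinv : ∀ g, F g⁻¹ = conj (F g) := by
    intro g
    rw [hsym]
    simp only [hF, hreal]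
  -- the main property
  have hs : ∀ x, ∃ c : ℂ, ∀ g, ∑ y, F y * F (x⁻¹ * (y⁻¹ * g)) = c * F g := by
    intro x
    set f : Y → ℂ := ∑ y, F y • lreg Y y (lreg Y x F) with hf
    have hfg : ∀ g, f g = ∑ y, F y * F (x⁻¹ * (y⁻¹ * g)) := by
      intro g
      rw [hf, Finset.sum_apply]
      rfl
    have hfl : ∀ a ∈ PJ cs h T X (orth cs h (D.v D.o)), ∀ g, f (a * g) = f g := by
      intro a ha g
      rw [hfg, hfg]
      refine Fintype.sum_equiv (Equiv.mulLeft a⁻¹) _ _ fun y => ?_
      rw [Equiv.coe_mulLeft, hFl _ (inv_mem ha), mul_inv_rev, inv_inv, mul_assoc y⁻¹]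
    have hfr : ∀ b ∈ RGD.B cs h T X, ∀ g, f (g * b) = f g := by
      intro b hb g
      rw [hfg, hfg]
      refine Finset.sum_congr rfl fun y _ => ?_
      rw [show x⁻¹ * (y⁻¹ * (g * b)) = x⁻¹ * (y⁻¹ * g) * b by group, hFr b hb]
    have hfn : ∀ i, i ≠ i₀ → ∀ g, f (g * n i) = f g := by
      intro i hi g
      rw [hfg, hfg]
      refine Finset.sum_congr rfl fun y _ => ?_
      rw [show x⁻¹ * (y⁻¹ * (g * n i)) = x⁻¹ * (y⁻¹ * g) * n i by group, hFn i hi]
    have hTf : TL n X L f = θ • f := by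
      rw [hf, map_sum, Finset.smul_sum]
      refine Finset.sum_congr rfl fun y _ => ?_
      rw [map_smul, TL_lreg, TL_lreg, hTF, map_smul, map_smul, smul_comm]
    choose gk hgk using fun k => exists_kap_eq D R hκ k
    choose gk' hgk' using hgk
    set Φ : Ω → ℂ := fun k => f (gk' k) with hΦ
    have hfΦ : ∀ g, f g = Φ (κ g) := by
      intro g
      obtain ⟨a, ha, b, hb, e⟩ := exists_of_kap_eq D R hG hκ (g := g) (g' := gk' (κ g)) (hgk' (κ g)).2.symm
      rw [hΦ]
      show f g = f (gk' (κ g))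
      rw [e, hfr b hb, hfl a ha]
    have hΦσ : ∀ i, i ≠ i₀ → ∀ k, Φ (D.σ i k) = Φ k := by
      intro i hi k
      have h2 : κ (gk' k * n i) = D.σ i k := by
        apply D.inj
        have h3 := hκ _ _ (cell_of_rp ((hgk' k).1.mul (rp_simple cs R.nsys i)))
        have h4 := hκ _ _ (cell_of_rp (hgk' k).1)
        rw [h3, mul_inv_rev, inv_simple, rep_mul_apply, ← h4, (hgk' k).2, rep_simple, D.hσ]
      rw [← h2, ← hfΦ, hfn i hi, hfΦ, (hgk' k).2]
    have hΦl : ∀ (l : List I) (k : Ω), (∀ i ∈ l, i ≠ i₀) → Φ (l.foldr D.σ k) = Φ k := by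
      intro l k
      induction l with
      | nil => intro _; rfl
      | cons i l ih =>
        intro h2
        rw [List.foldr_cons, hΦσ i (h2 i (by simp)), ih fun j hj => h2 j (by simp [hj])]
    set x' : ℤ → ℂ := fun l => Φ (rp l) with hx'
    have hΦx : ∀ k, Φ k = x' (D.v k i₀) := by
      intro k
      rw [hx']
      show Φ k = Φ (rp (D.v k i₀))
      rw [← hrp k, hΦl _ _ (hcw k)]
    have hΦ' : Φ = fun k => x' (D.v k i₀) := funext hΦx
    have hall : ∀ k, row x' (D.v k i₀) = θ * x' (D.v k i₀) := by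
      intro k
      have h2 := TL_kap R hG hκ hq L Φ
      rw [show (fun g => Φ (κ g)) = f from (funext hfΦ).symm, hTf] at h2
      have h3 := congrFun h2 (gk' k)
      rw [Pi.smul_apply, smul_eq_mul, hfΦ, (hgk' k).2] at h3
      rw [← hrow, ← hΦ', ← h3, hΦx]
    have h2 := huniq x' hall
    refine ⟨x' (D.v D.o i₀), fun g => ?_⟩
    rw [← hfg, hfΦ, hΦx, h2 (κ g)]
  obtain ⟨χ, hd, hfix⟩ := exists_irr_of_spherical' F (by
    show φ (D.v (κ 1) i₀) = 1
    rw [(kap_eq_o D R hG hκ).2 (one_mem _), h1]) hinv hs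
  refine ⟨χ, ?_, hfix _ hFl⟩
  rw [← hd]
  congr 1
  refine Finset.sum_congr rfl fun g _ => ?_
  rw [hsym, sq]

end op

end Cfsg.Agent.H164.EP
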