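import Cfsg.Agent.H730.Sq.Main
import Cfsg.Agent.H164.EP.Sph
import Cfsg.Agent.H164.EP.Idx

/-!
# The rank 5 permutation character of `F₄(q)` (helper164, S4929)

`rank_five` : the permutation character of `F₄(q)` on the cosets of the maximal parabolic subgroup `P` of index
`(1 + q)(1 + q²)(1 + q⁴)(q⁸ + q⁴ + 1)` is the sum of `1` and irreducible characters of degrees
`q²(q⁴ + q² + 1)²(q⁴ - q² + 1)`, `q³(q² + 1)²(q⁴ + 1)(q⁴ - q² + 1)`, `½q(q³ + 1)²(q⁴ + 1)`, `½q(q² + 1)(q⁴ + 1)(q⁴ - q² + 1)`.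
-/

set_option autoImplicit false
set_option maxHeartbeats 1000000

open scoped ComplexConjugate
open Cfsg

namespace Cfsg.Agent.H164.EP

open CoxeterSystem Cfsg.Agent.ChevalleyStructure.CoxeterGeom Cfsg.Agent.Tits.Roots Cfsg.Agent.Tits.Core
  Cfsg.Agent.Tits.Exchange Cfsg.Agent.Nodes.Reps Cfsg.Agent.Nodes.BNOf Cfsg.Agent.Nodes.StabComb
  Cfsg.Agent.Nodes.Bruhat Cfsg.Agent.Nodes.LeviDec Cfsg.Agent.H730.Sq.Typ Cfsg.Agent.H730.Sq.Sph
  Cfsg.Agent.H730.Sq.Op Cfsg.Agent.H730.Sq.Tab24 Cfsg.Agent.H730.Sq.Rank Cfsg.Agent.H892.EP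

section alg

/-- a function on the levels -/
noncomputable def five (a b c d e : ℂ) (l : ℤ) : ℂ :=
  if l = 2 then a else if l = 1 then b else if l = 0 then c else if l = -1 then d else e

variable (a b c d e : ℂ)

theorem five_2 : five a b c d e 2 = a := by simp [five]
theorem five_1 : five a b c d e 1 = b := by simp [five]
theorem five_0 : five a b c d e 0 = c := by simp [five]
theorem five_n1 : five a b c d e (-1) = d := by simp [five]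
theorem five_n2 : five a b c d e (-2) = e := by simp [five]

theorem conj_five (ha : conj a = a) (hb : conj b = b) (hc : conj c = c) (hd : conj d = d) (he : conj e = e) (l : ℤ) :
    conj (five a b c d e l) = five a b c d e l := by
  unfold five
  split_ifs <;> assumption

/-- an eigenpair of the collinearity operator with simple eigenvalue -/
structure Eig (q : ℂ) (φ : ℤ → ℂ) (θ : ℂ) : Prop where
  h2 : φ 2 = 1
  real : ∀ l, conj (φ l) = φ l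
  r2 : row q q φ 2 = θ * φ 2
  r1 : row q q φ 1 = θ * φ 1
  r0 : row q q φ 0 = θ * φ 0
  rn : row q q φ (-1) = θ * φ (-1)
  rm : row q q φ (-2) = θ * φ (-2)
  det : q ^ 8 * ((1 + q) * (1 + q ^ 2)) * (1 + q + q ^ 2) - q ^ 7 * (q ^ 4 - 1 - θ) ≠ 0

variable {q : ℂ} {φ : ℤ → ℂ} {θ : ℂ}

theorem Eig.eig (h : Eig q φ θ) (l : ℤ) (hl : l = 2 ∨ l = 1 ∨ l = 0 ∨ l = -1 ∨ l = -2) : row q q φ l = θ * φ l := by
  rcases hl with rfl | rfl | rfl | rfl | rfl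
  · exact h.r2
  · exact h.r1
  · exact h.r0
  · exact h.rn
  · exact h.rm

theorem Eig.uniq (h : Eig q φ θ) (hq : q ≠ 0) (h1 : 1 + q ≠ 0) (h2 : 1 + q ^ 2 ≠ 0) (h3 : 1 + q ^ 3 ≠ 0) (x : ℤ → ℂ)
    (hx : ∀ l : ℤ, l = 2 ∨ l = 1 ∨ l = 0 ∨ l = -1 ∨ l = -2 → row q q x l = θ * x l)
    (l : ℤ) (hl : l = 2 ∨ l = 1 ∨ l = 0 ∨ l = -1 ∨ l = -2) : x l = x 2 * φ l := by
  have e2 := hx 2 (by simp)
  have e1 := hx 1 (by simp)
  have e0 := hx 0 (by simp)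
  have en := hx (-1) (by simp)
  have f2 := h.r2
  have f1 := h.r1
  have f0 := h.r0
  have fn := h.rn
  rw [row_2] at e2 f2
  rw [row_1] at e1 f1
  rw [row_0] at e0 f0
  rw [row_n1] at en fn
  rw [h.h2] at f2 f1
  have g1 : x 1 - x 2 * φ 1 = 0 := by
    have : (q * (1 + q) * (1 + q ^ 2) * (1 + q ^ 3)) * (x 1 - x 2 * φ 1) = 0 := by
      linear_combination e2 - x 2 * f2
    refine (mul_eq_zero.1 this).resolve_left ?_
    exact mul_ne_zero (mul_ne_zero (mul_ne_zero hq h1) h2) h3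
  have g0 : x 0 - x 2 * φ 0 = 0 := by
    have : (q ^ 8 * ((1 + q) * (1 + q ^ 2)) * (1 + q + q ^ 2) - q ^ 7 * (q ^ 4 - 1 - θ)) * (x 0 - x 2 * φ 0) = 0 := by
      linear_combination (q^4 * ((1 + q) * (1 + q ^ 2))) * (e1 - x 2 * f1) - (q^7) * (e0 - x 2 * f0) +
        ((q^4 * ((1 + q) * (1 + q ^ 2))) * (θ - (-1 + q + q^2 + q^3 + q^4)) +
          q^7 * ((1 + q) * (1 + q ^ 2))) * g1
    exact (mul_eq_zero.1 this).resolve_left h.det
  have gn : x (-1) - x 2 * φ (-1) = 0 := by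
    have : (q ^ 7) * (x (-1) - x 2 * φ (-1)) = 0 := by
      linear_combination (e1 - x 2 * f1) + (θ - (-1 + q + q^2 + q^3 + q^4)) * g1 - (q^4 + q^5 + q^6) * g0
    exact (mul_eq_zero.1 this).resolve_left (pow_ne_zero 7 hq)
  have gm : x (-2) - x 2 * φ (-2) = 0 := by
    have : (q ^ 7) * (x (-2) - x 2 * φ (-2)) = 0 := by
      linear_combination (en - x 2 * fn) + (θ - (-1 + 2 * q^4 + q^5 + q^6)) * gn - g1 - (q + q^2 + q^3) * g0
    exact (mul_eq_zero.1 this).resolve_left (pow_ne_zero 7 hq)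
  rcases hl with rfl | rfl | rfl | rfl | rfl
  · rw [h.h2, mul_one]
  · linear_combination g1
  · linear_combination g0
  · linear_combination gn
  · linear_combination gm

/-- `∑ k_l φ_l²` -/
noncomputable def VW (q : ℂ) (φ : ℤ → ℂ) : ℂ :=
  1 + q * (1 + q) * (1 + q * q) * (1 + q ^ 2 * q) * φ 1 ^ 2 +
    q * q ^ 4 * (1 + q + q ^ 2) * (1 + q ^ 2 * q) * φ 0 ^ 2 +
    q ^ 3 * q ^ 5 * (1 + q) * (1 + q * q) * (1 + q ^ 2 * q) * φ (-1) ^ 2 + q ^ 6 * q ^ 9 * φ (-2) ^ 2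

end alg

section vals

variable {n : ℕ} (hn : 0 < n)

include hn

theorem eig_9 : Eig (n : ℂ) (ph n n) (th n n) := by
  have c1 : (n : ℂ) ≠ 0 := by exact_mod_cast hn.ne'
  have c3 : (1 : ℂ) + (n : ℂ) ^ 2 * n ≠ 0 := by
    have : ((1 + n ^ 2 * n : ℕ) : ℂ) ≠ 0 := by rw [Nat.cast_ne_zero]; omega
    push_cast at this; exact this
  have c4 : (n : ℂ) ^ 2 + n + 1 ≠ 0 := by
    have : ((n ^ 2 + n + 1 : ℕ) : ℂ) ≠ 0 := by rw [Nat.cast_ne_zero]; omega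
    push_cast at this; exact this
  refine ⟨ph_2 _ _, fun l => ?_, eig c1 c1 c3 c4 _ (by simp), eig c1 c1 c3 c4 _ (by simp), eig c1 c1 c3 c4 _ (by simp),
    eig c1 c1 c3 c4 _ (by simp), eig c1 c1 c3 c4 _ (by simp), ?_⟩
  · unfold ph
    split_ifs <;> simp
  · have e : (n : ℂ) ^ 8 * ((1 + n) * (1 + (n : ℂ) ^ 2)) * (1 + n + (n : ℂ) ^ 2) - (n : ℂ) ^ 7 * ((n : ℂ) ^ 4 - 1 - th n n) =
        ((n ^ 8 * ((1 + n) * (1 + n ^ 2)) * (1 + n + n ^ 2) : ℕ) : ℂ) := by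
      unfold th
      push_cast
      ring
    rw [e, Nat.cast_ne_zero]
    positivity

/-- the eigenfunction of degree `φ_{8,3}` -/
noncomputable def f8 (q : ℂ) : ℤ → ℂ :=
  five 1 (-1 / (q * ((1 + q) * (1 + q ^ 2)))) 0 (1 / (q ^ 5 * ((1 + q) * (1 + q ^ 2)))) (-1 / q ^ 9)

/-- the eigenfunction of degree `φ_{4,1}` -/
noncomputable def f4 (q : ℂ) : ℤ → ℂ :=
  five 1 ((q ^ 2 + q - 1) / (q * (1 + q ^ 3))) ((q ^ 3 - 1) / (q ^ 3 * (1 + q ^ 3)))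
    ((q ^ 2 - q - 1) / (q ^ 4 * (1 + q ^ 3))) (-1 / q ^ 6)

/-- the eigenfunction of degree `φ_{2,4}` -/
noncomputable def f2 (q : ℂ) : ℤ → ℂ :=
  five 1 (-1 / (q * (1 + q))) (1 / q ^ 3) (-1 / (q ^ 4 * (1 + q))) (1 / q ^ 6)

theorem eig_8 : Eig (n : ℂ) (f8 n) (-((n : ℂ) ^ 3 + 1)) := by
  have c1 : (n : ℂ) ≠ 0 := by exact_mod_cast hn.ne'
  have c2 : (1 : ℂ) + (n : ℂ) ≠ 0 := by
    have : ((1 + n : ℕ) : ℂ) ≠ 0 := by rw [Nat.cast_ne_zero]; omega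
    push_cast at this; exact this
  have c3 : (1 : ℂ) + (n : ℂ) ^ 2 ≠ 0 := by
    have : ((1 + n ^ 2 : ℕ) : ℂ) ≠ 0 := by rw [Nat.cast_ne_zero]; omega
    push_cast at this; exact this
  refine ⟨five_2 _ _ _ _ _, conj_five _ _ _ _ _ (by simp) (by simp) (by simp) (by simp) (by simp), ?_, ?_, ?_, ?_, ?_, ?_⟩
  · rw [row_2, f8, five_2, five_1]
    field_simp
    ring
  · rw [row_1, f8, five_2, five_1, five_0, five_n1]
    field_simp
    ring
  · rw [row_0, f8, five_1, five_0, five_n1]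
    field_simp
    ring
  · rw [row_n1, f8, five_1, five_0, five_n1, five_n2]
    field_simp
    ring
  · rw [row_n2, f8, five_n1, five_n2]
    field_simp
    ring
  · have e : (n : ℂ) ^ 8 * ((1 + n) * (1 + (n : ℂ) ^ 2)) * (1 + n + (n : ℂ) ^ 2) - (n : ℂ) ^ 7 * ((n : ℂ) ^ 4 - 1 - -((n : ℂ) ^ 3 + 1)) =
        ((n ^ 8 * (1 + n) * (1 + n + n ^ 2 + n ^ 3 + n ^ 4) : ℕ) : ℂ) := by
      push_cast
      ring
    rw [e, Nat.cast_ne_zero]
    positivity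

theorem eig_4 : Eig (n : ℂ) (f4 n) ((1 + (n : ℂ)) * (1 + (n : ℂ) ^ 2) * ((n : ℂ) ^ 2 + n - 1)) := by
  have c1 : (n : ℂ) ≠ 0 := by exact_mod_cast hn.ne'
  have c3 : (1 : ℂ) + (n : ℂ) ^ 3 ≠ 0 := by
    have : ((1 + n ^ 3 : ℕ) : ℂ) ≠ 0 := by rw [Nat.cast_ne_zero]; omega
    push_cast at this; exact this
  refine ⟨five_2 _ _ _ _ _, conj_five _ _ _ _ _ (by simp) (by simp) (by simp) (by simp) (by simp), ?_, ?_, ?_, ?_, ?_, ?_⟩
  · rw [row_2, f4, five_2, five_1]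
    field_simp
    ring
  · rw [row_1, f4, five_2, five_1, five_0, five_n1]
    field_simp
    ring
  · rw [row_0, f4, five_1, five_0, five_n1]
    field_simp
    ring
  · rw [row_n1, f4, five_1, five_0, five_n1, five_n2]
    field_simp
    ring
  · rw [row_n2, f4, five_n1, five_n2]
    field_simp
    ring
  · have e : (n : ℂ) ^ 8 * ((1 + n) * (1 + (n : ℂ) ^ 2)) * (1 + n + (n : ℂ) ^ 2) - (n : ℂ) ^ 7 * ((n : ℂ) ^ 4 - 1 -
        (1 + (n : ℂ)) * (1 + (n : ℂ) ^ 2) * ((n : ℂ) ^ 2 + n - 1)) =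
        ((n ^ 8 * ((1 + n) * (1 + n ^ 2)) * (1 + 2 * n + n ^ 2) : ℕ) : ℂ) := by
      push_cast
      ring
    rw [e, Nat.cast_ne_zero]
    positivity

theorem eig_2 : Eig (n : ℂ) (f2 n) (-(((n : ℂ) ^ 2 + 1) * ((n : ℂ) ^ 3 + 1))) := by
  have c1 : (n : ℂ) ≠ 0 := by exact_mod_cast hn.ne'
  have c2 : (1 : ℂ) + (n : ℂ) ≠ 0 := by
    have : ((1 + n : ℕ) : ℂ) ≠ 0 := by rw [Nat.cast_ne_zero]; omega
    push_cast at this; exact this
  refine ⟨five_2 _ _ _ _ _, conj_five _ _ _ _ _ (by simp) (by simp) (by simp) (by simp) (by simp), ?_, ?_, ?_, ?_, ?_, ?_⟩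
  · rw [row_2, f2, five_2, five_1]
    field_simp
    ring
  · rw [row_1, f2, five_2, five_1, five_0, five_n1]
    field_simp
    ring
  · rw [row_0, f2, five_1, five_0, five_n1]
    field_simp
    ring
  · rw [row_n1, f2, five_1, five_0, five_n1, five_n2]
    field_simp
    ring
  · rw [row_n2, f2, five_n1, five_n2]
    field_simp
    ring
  · have e : (n : ℂ) ^ 8 * ((1 + n) * (1 + (n : ℂ) ^ 2)) * (1 + n + (n : ℂ) ^ 2) - (n : ℂ) ^ 7 * ((n : ℂ) ^ 4 - 1 -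
        -(((n : ℂ) ^ 2 + 1) * ((n : ℂ) ^ 3 + 1))) =
        ((n ^ 8 * ((1 + n) * (1 + n ^ 2)) * (1 + n ^ 2) : ℕ) : ℂ) := by
      push_cast
      ring
    rw [e, Nat.cast_ne_zero]
    positivity

/-! ### the degrees -/

theorem deg_8 : ((n : ℂ) ^ 3 * ((n : ℂ) ^ 2 + 1) ^ 2 * ((n : ℂ) ^ 4 + 1) * ((n : ℂ) ^ 4 - (n : ℂ) ^ 2 + 1)) * VW n (f8 n) =
    V n n := by
  have c1 : (n : ℂ) ≠ 0 := by exact_mod_cast hn.ne'
  have c2 : (1 : ℂ) + (n : ℂ) ≠ 0 := by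
    have : ((1 + n : ℕ) : ℂ) ≠ 0 := by rw [Nat.cast_ne_zero]; omega
    push_cast at this; exact this
  have c3 : (1 : ℂ) + (n : ℂ) ^ 2 ≠ 0 := by
    have : ((1 + n ^ 2 : ℕ) : ℂ) ≠ 0 := by rw [Nat.cast_ne_zero]; omega
    push_cast at this; exact this
  unfold VW V f8
  rw [five_1, five_0, five_n1, five_n2]
  field_simp
  ring

theorem deg_4 : ((n : ℂ) * ((n : ℂ) ^ 3 + 1) ^ 2 * ((n : ℂ) ^ 4 + 1)) * VW n (f4 n) = 2 * V n n := by
  have c1 : (n : ℂ) ≠ 0 := by exact_mod_cast hn.ne'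
  have c3 : (1 : ℂ) + (n : ℂ) ^ 3 ≠ 0 := by
    have : ((1 + n ^ 3 : ℕ) : ℂ) ≠ 0 := by rw [Nat.cast_ne_zero]; omega
    push_cast at this; exact this
  unfold VW V f4
  rw [five_1, five_0, five_n1, five_n2]
  field_simp
  ring

theorem deg_2 : ((n : ℂ) * ((n : ℂ) ^ 2 + 1) * ((n : ℂ) ^ 4 + 1) * ((n : ℂ) ^ 4 - (n : ℂ) ^ 2 + 1)) * VW n (f2 n) = 2 * V n n := by
  have c1 : (n : ℂ) ≠ 0 := by exact_mod_cast hn.ne'
  have c2 : (1 : ℂ) + (n : ℂ) ≠ 0 := by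
    have : ((1 + n : ℕ) : ℂ) ≠ 0 := by rw [Nat.cast_ne_zero]; omega
    push_cast at this; exact this
  unfold VW V f2
  rw [five_1, five_0, five_n1, five_n2]
  field_simp
  ring

theorem deg_9 : ((n : ℂ) ^ 2 * ((n : ℂ) ^ 4 + (n : ℂ) ^ 2 + 1) ^ 2 * ((n : ℂ) ^ 4 - (n : ℂ) ^ 2 + 1)) * VW n (ph n n) =
    V n n := by
  have c1 : (n : ℂ) ≠ 0 := by exact_mod_cast hn.ne'
  have c3 : (1 : ℂ) + (n : ℂ) ^ 2 * n ≠ 0 := by
    have : ((1 + n ^ 2 * n : ℕ) : ℂ) ≠ 0 := by rw [Nat.cast_ne_zero]; omega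
    push_cast at this; exact this
  have c4 : (n : ℂ) ^ 2 + n + 1 ≠ 0 := by
    have : ((n ^ 2 + n + 1 : ℕ) : ℂ) ≠ 0 := by rw [Nat.cast_ne_zero]; omega
    push_cast at this; exact this
  have h := Cfsg.Agent.H730.Sq.deg_F c1 c3 c4
  have e : VW n (ph n n) = V2 n n := rfl
  rw [e, ← h]
  ring

end vals

section main

universe u

variable {W : Type*} {Y : Type u} [Group W] [Group Y] {M : CoxeterMatrix (Fin 4)}
  {cs : CoxeterSystem M W} {A : Fin 4 → Fin 4 → ℤ} {h : IsCartan M A} {p : ℕ} {T : Subgroup Y} {n : Fin 4 → Y}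
  {X : (Fin 4 → ℤ) → Subgroup Y} [Finite W] [Finite Y] (R : RGD cs h p T n X) (hG : GG cs h T X = ⊤)
  (D : Tab A (Fin 24)) (hσ : D.σ = sg) (hε : D.ε = ep) (ho : D.o = 0) (hlv : ∀ k, D.v k 3 = lv k)
  (hpair : ∀ i, i ≠ 3 → pairing A i (D.v D.o) = 0) {q : ℕ} (hq : 0 < q)
  (hsize : ∀ i, (Nat.card (X (sr i)) : ℂ) = par q q i)

include R hG hσ hε ho hlv hpair hq hsize

/-- the character of an eigenpair, and the index of the parabolic subgroup -/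
theorem exists_of_eig {φ : ℤ → ℂ} {θ : ℂ} (hE : Eig (q : ℂ) φ θ) :
    ∃ χ : IrrCharacter Y, (χ : Y → ℂ) 1 * VW q φ = V q q ∧ md (PJ cs h T X (orth cs h (D.v D.o))) (χ : Y → ℂ) ≠ 0 ∧
      (((PJ cs h T X (orth cs h (D.v D.o))).index : ℕ) : ℂ) = V q q := by
  classical
  have : Fintype Y := Fintype.ofFinite Y
  have c1 : (q : ℂ) ≠ 0 := by exact_mod_cast hq.ne'
  have c5 : (1 : ℂ) + q ≠ 0 := by
    have : ((1 + q : ℕ) : ℂ) ≠ 0 := by rw [Nat.cast_ne_zero]; omega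
    push_cast at this; exact this
  have c6 : (1 : ℂ) + (q : ℂ) ^ 2 ≠ 0 := by
    have : ((1 + q ^ 2 : ℕ) : ℂ) ≠ 0 := by rw [Nat.cast_ne_zero]; omega
    push_cast at this; exact this
  have c6' : (1 : ℂ) + q * q ≠ 0 := by
    have : ((1 + q * q : ℕ) : ℂ) ≠ 0 := by rw [Nat.cast_ne_zero]; omega
    push_cast at this; exact this
  have c3' : (1 : ℂ) + (q : ℂ) ^ 2 * q ≠ 0 := by
    have : ((1 + q ^ 2 * q : ℕ) : ℂ) ≠ 0 := by rw [Nat.cast_ne_zero]; omega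
    push_cast at this; exact this
  have c3 : (1 : ℂ) + (q : ℂ) ^ 3 ≠ 0 := by
    have : ((1 + q ^ 3 : ℕ) : ℂ) ≠ 0 := by rw [Nat.cast_ne_zero]; omega
    push_cast at this; exact this
  have c7 : (1 : ℂ) + q * (1 + q + q ^ 2) + q ^ 2 * q ^ 2 ≠ 0 := by
    have : ((1 + q * (1 + q + q ^ 2) + q ^ 2 * q ^ 2 : ℕ) : ℂ) ≠ 0 := by rw [Nat.cast_ne_zero]; omega
    push_cast at this; exact this
  obtain ⟨κ, hκ⟩ := exists_kap D R hG
  have hv0 : D.v D.o 3 = 2 := by rw [ho, hlv]; rfl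
  have hrow : ∀ (x : ℤ → ℂ) k, tauL D.σ D.ε (par q q) LW (fun k => x (D.v k 3)) k = row q q x (D.v k 3) := by
    intro x k
    simp only [hσ, hε, hlv]
    exact row_eq q q x k
  have hne : D.v D.o ≠ 0 := by
    intro h0
    rw [h0] at hv0
    exact absurd hv0 (by decide)
  have hcase : ∀ k, D.v k 3 = 2 ∨ D.v k 3 = 1 ∨ D.v k 3 = 0 ∨ D.v k 3 = -1 ∨ D.v k 3 = -2 := by
    intro k
    rw [hlv]
    exact mem_Lv.1 (lv_mem k)
  obtain ⟨χ, hd, hfix⟩ := exists_irr_rank' R hG hκ hsize hpair hne rp cw cw_ne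
    (fun k => by rw [hσ, hlv]; exact rp_eq k) LW (row q q) hrow φ θ (by rw [hv0, hE.h2]) hE.real
    (fun k => hE.eig _ (hcase k))
    (fun x hx k => by
      rw [hv0]
      refine hE.uniq c1 c5 c6 c3 x (fun l hl => ?_) _ (hcase k)
      have h8 : ∀ l ∈ Lv, ∃ k, lv k = l := by decide +kernel
      obtain ⟨k, hk⟩ := h8 l (mem_Lv.2 hl)
      have h9 := hx k
      rwa [hlv, hk] at h9)
  obtain ⟨K, hK0, hK1, hK2⟩ := exists_sizes R hG hκ hsize LW (row q q) hrow Lv fun k => mem_Lv.2 (hcase k)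
  rw [hv0] at hK0
  obtain ⟨k1, k2, k3, k4⟩ := sizes (mul_ne_zero (mul_ne_zero c5 c6') c7) (mul_ne_zero (mul_ne_zero c5 c6') c3') K hK2
  have h10 := hK1 fun l => φ l ^ 2
  have h11 := hK1 fun _ => 1
  simp only [mul_one, Finset.sum_const, Finset.card_univ, nsmul_eq_mul] at h11
  rw [sum_Lv, k1, k2, k3, k4, ← Nat.card_eq_fintype_card] at h11
  refine ⟨χ, ?_, hfix, ?_⟩
  · rw [h10, h11, sum_Lv, k1, k2, k3, k4, hE.h2] at hd
    have h12 : K 2 * ((χ : Y → ℂ) 1 * VW q φ) = K 2 * V q q := by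
      unfold VW V
      linear_combination hd
    exact mul_left_cancel₀ hK0 h12
  · -- the index
    have h13 := hK1 fun l => if l = 2 then 1 else 0
    rw [sum_Lv] at h13
    norm_num at h13
    have h14 : (Finset.univ.filter fun g : Y => D.v (κ g) 3 = 2).card =
        Nat.card (PJ cs h T X (orth cs h (D.v D.o))) := by
      rw [Nat.card_eq_fintype_card, Fintype.card_subtype]
      congr 1
      ext g
      rw [Finset.mem_filter, Finset.mem_filter, ← kap_eq_o D R hG hκ, hlv, ho]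
      have h15 : ∀ k : Fin 24, lv k = 2 ↔ k = 0 := by decide +kernel
      rw [h15]
    rw [h14] at h13
    have h16 : (Nat.card Y : ℂ) = K 2 * V q q := by
      rw [h11]
      unfold V
      ring
    have h17 := (PJ cs h T X (orth cs h (D.v D.o))).card_mul_index
    have h18 : (Nat.card (PJ cs h T X (orth cs h (D.v D.o))) : ℂ) * (PJ cs h T X (orth cs h (D.v D.o))).index =
        K 2 * V q q := by
      rw [← h16]
      exact_mod_cast h17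
    rw [h13] at h18
    exact mul_left_cancel₀ hK0 h18

end main

end Cfsg.Agent.H164.EP
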