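import Cfsg.Agent.H164.EP.Rank
import Cfsg.Agent.H892.EP.Rows
import Cfsg.Agent.H720.SylInv
import Cfsg.Agent.S2378

/-!
# S4929: `F₄(q)` at the primes `p` whose order of `q` is larger than 3 (helper164)
-/

set_option autoImplicit false
set_option linter.unusedSectionVars false
set_option maxHeartbeats 1000000

open scoped ComplexConjugate
open Cfsg Cfsg.Agent.Characters.Core Cfsg.Agent.Blocks.Local Cfsg.Agent.H892.EP

namespace Cfsg.Agent.H164.EP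

universe u

/-- a set of constituents of the permutation character whose degrees add up to the index -/
theorem md_of_sum {G : Type u} [Group G] [Finite G] (P : Subgroup G) (s : Finset (IrrCharacter G))
    (hs : ∀ χ ∈ s, md P (χ : G → ℂ) ≠ 0) (hsum : ∑ χ ∈ s, (χ : G → ℂ) 1 = (P.index : ℂ)) :
    (∀ χ ∈ s, md P (χ : G → ℂ) = 1) ∧ ∀ χ : IrrCharacter G, md P (χ : G → ℂ) ≠ 0 → χ ∈ s := by
  classical
  have : Finite (IrrCharacter G) := finite_irr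
  have := Fintype.ofFinite (IrrCharacter G)
  choose m hm using fun χ : IrrCharacter G => exists_md P (isIrr_isCharacter χ.2)
  choose d hd0 hd using fun χ : IrrCharacter G => isIrr_apply_one χ.2
  have h1 := sum_all P
  have h2 : ∑ χ : IrrCharacter G, (if χ ∈ s then d χ else 0) = ∑ χ : IrrCharacter G, d χ * m χ := by
    have h3 : ((∑ χ : IrrCharacter G, (if χ ∈ s then d χ else 0) : ℕ) : ℂ) = ((∑ χ, d χ * m χ : ℕ) : ℂ) := by
      rw [Finset.sum_ite_mem, Finset.univ_inter, Nat.cast_sum, Nat.cast_sum,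
        Finset.sum_congr rfl fun χ _ => (hd χ).symm, hsum, ← h1]
      refine Finset.sum_congr rfl fun χ _ => ?_
      rw [hm, hd, Nat.cast_mul]
    exact_mod_cast h3
  have h4 : ∀ χ ∈ (Finset.univ : Finset (IrrCharacter G)), (if χ ∈ s then d χ else 0) ≤ d χ * m χ := by
    intro χ _
    split_ifs with h
    · have h5 : m χ ≠ 0 := by
        intro h0
        apply hs χ h
        rw [hm, h0, Nat.cast_zero]
      exact Nat.le_mul_of_pos_right _ (Nat.pos_of_ne_zero h5)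
    · exact Nat.zero_le _
  have h5 := (Finset.sum_eq_sum_iff_of_le h4).1 h2
  constructor
  · intro χ hχ
    have h6 := h5 χ (Finset.mem_univ _)
    rw [if_pos hχ] at h6
    have h7 : m χ = 1 := by
      have h8 : d χ * 1 = d χ * m χ := by rw [mul_one]; exact h6
      exact (Nat.eq_of_mul_eq_mul_left (hd0 χ) h8).symm
    rw [hm, h7, Nat.cast_one]
  · intro χ hχ
    by_contra hn
    have h6 := h5 χ (Finset.mem_univ _)
    rw [if_neg hn] at h6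
    rcases Nat.mul_eq_zero.1 h6.symm with h7 | h7
    · exact absurd h7 (hd0 χ).ne'
    · exact hχ (by rw [hm, h7, Nat.cast_zero])

section perm

open Cfsg.Lie Cfsg.Agent.Nodes Cfsg.Agent.H53.HC Cfsg.Agent.H35.ExcIdx Cfsg.Agent.H35.PoinNum
open Cfsg.Agent.Nodes.RGDChev Cfsg.Agent.ChevalleyStructure.CoxeterGeomTypes
open CoxeterSystem Cfsg.Agent.ChevalleyStructure.CoxeterGeom Cfsg.Agent.Tits.Roots Cfsg.Agent.Tits.Core
  Cfsg.Agent.Tits.Exchange Cfsg.Agent.Nodes.Reps Cfsg.Agent.Nodes.BNOf Cfsg.Agent.Nodes.StabComb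
open Cfsg.Agent.Characters Cfsg.Agent.Nodes.LeviDec Cfsg.Agent.H730.Sq.Typ Cfsg.Agent.H730.Sq.Tab24
  Cfsg.Agent.H730.Sq.Rank Cfsg.Agent.H730.Sq

/-- the rank 5 permutation character of `F₄(q)` -/
theorem perm_F4 (F : Type) [Field F] [Fintype F] {x : ℕ} (hx : Fintype.card F = x + 2) :
    ∃ (P : Subgroup ↥(chevF4.group F)) (χ₀ : IrrCharacter ↥(chevF4.group F)) (d8 d4 d2 : ℕ),
      P.index = (1 + (x + 2)) * (1 + (x + 2) ^ 2) * (1 + (x + 2) ^ 4) * ((x + 2) ^ 8 + (x + 2) ^ 4 + 1) ∧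
      (χ₀ : ↥(chevF4.group F) → ℂ) 1 = (((x + 2) ^ 2 * ((x + 2) ^ 4 + (x + 2) ^ 2 + 1) ^ 2 *
        ((x + 2) ^ 2 * ((x + 1) * (x + 3)) + 1) : ℕ) : ℂ) ∧ md P (χ₀ : ↥(chevF4.group F) → ℂ) = 1 ∧
      d8 = (x + 2) ^ 3 * ((x + 2) ^ 2 + 1) ^ 2 * ((x + 2) ^ 4 + 1) * ((x + 2) ^ 2 * ((x + 1) * (x + 3)) + 1) ∧
      2 * d4 = (x + 2) * ((x + 2) ^ 3 + 1) ^ 2 * ((x + 2) ^ 4 + 1) ∧
      2 * d2 = (x + 2) * ((x + 2) ^ 2 + 1) * ((x + 2) ^ 4 + 1) * ((x + 2) ^ 2 * ((x + 1) * (x + 3)) + 1) ∧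
      ∀ χ : IrrCharacter ↥(chevF4.group F), md P (χ : ↥(chevF4.group F) → ℂ) ≠ 0 →
        χ = oneChar _ ∨ χ = χ₀ ∨ charDegree (χ : ↥(chevF4.group F) → ℂ) = d8 ∨
          charDegree (χ : ↥(chevF4.group F) → ℂ) = d4 ∨ charDegree (χ : ↥(chevF4.group F) → ℂ) = d2 := by
  classical
  obtain ⟨r, f, hr, hf, hF, hch⟩ := ExcIM.exists_prime_pow F
  have hfg : Finite ↥(chevF4.group F) := ExcRows.finite_group (K := F) chevF4
  have D := data_F4_1 hr hf hF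
  have := D.fin
  have hq : r ^ f = x + 2 := by rw [← hF, hx]
  have hq0 : 0 < r ^ f := by omega
  have hsz : ∀ i, (Nat.card (XX chevF4 4 F (sr i)) : ℂ) = par ((r ^ f : ℕ) : ℂ) ((r ^ f : ℕ) : ℂ) i := by
    intro i
    rw [D.size i]
    fin_cases i <;> rfl
  obtain ⟨χ9, e9, m9, hidx⟩ := exists_of_eig D.rgd D.gg DB rfl rfl rfl DB_lv DB_pair hq0 hsz (eig_9 hq0)
  obtain ⟨χ8, e8, m8, -⟩ := exists_of_eig D.rgd D.gg DB rfl rfl rfl DB_lv DB_pair hq0 hsz (eig_8 hq0)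
  obtain ⟨χ4, e4, m4, -⟩ := exists_of_eig D.rgd D.gg DB rfl rfl rfl DB_lv DB_pair hq0 hsz (eig_4 hq0)
  obtain ⟨χ2, e2, m2, -⟩ := exists_of_eig D.rgd D.gg DB rfl rfl rfl DB_lv DB_pair hq0 hsz (eig_2 hq0)
  set P := PJ CoxeterMatrix.F₄.toCoxeterSystem hpF4.isCartan (TT chevF4 F) (XX chevF4 4 F)
    (orth CoxeterMatrix.F₄.toCoxeterSystem hpF4.isCartan (DB.v DB.o)) with hP
  have g9 := deg_9 hq0
  have g8 := deg_8 hq0
  have g4 := deg_4 hq0
  have g2 := deg_2 hq0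
  have hV : V ((r ^ f : ℕ) : ℂ) ((r ^ f : ℕ) : ℂ) ≠ 0 := V_ne
  rw [hq] at e9 e8 e4 e2 g9 g8 g4 g2 hV hidx
  have hVn : V ((x + 2 : ℕ) : ℂ) ((x + 2 : ℕ) : ℂ) =
      (((1 + (x + 2)) * (1 + (x + 2) ^ 2) * (1 + (x + 2) ^ 4) * ((x + 2) ^ 8 + (x + 2) ^ 4 + 1) : ℕ) : ℂ) := by
    unfold V
    push_cast
    ring
  have i9 : (χ9 : ↥(chevF4.group F) → ℂ) 1 = (((x + 2) ^ 2 * ((x + 2) ^ 4 + (x + 2) ^ 2 + 1) ^ 2 *
        ((x + 2) ^ 2 * ((x + 1) * (x + 3)) + 1) : ℕ) : ℂ) := by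
    have h6 : VW ((x + 2 : ℕ) : ℂ) (ph ((x + 2 : ℕ) : ℂ) ((x + 2 : ℕ) : ℂ)) ≠ 0 := by
      intro h0
      rw [h0, mul_zero] at e9
      exact hV e9.symm
    rw [mul_right_cancel₀ h6 (e9.trans g9.symm)]
    push_cast
    ring
  have i8 : (χ8 : ↥(chevF4.group F) → ℂ) 1 = (((x + 2) ^ 3 * ((x + 2) ^ 2 + 1) ^ 2 * ((x + 2) ^ 4 + 1) *
      ((x + 2) ^ 2 * ((x + 1) * (x + 3)) + 1) : ℕ) : ℂ) := by
    have h6 : VW ((x + 2 : ℕ) : ℂ) (f8 ((x + 2 : ℕ) : ℂ)) ≠ 0 := by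
      intro h0
      rw [h0, mul_zero] at e8
      exact hV e8.symm
    rw [mul_right_cancel₀ h6 (e8.trans g8.symm)]
    push_cast
    ring
  have i4 : 2 * (χ4 : ↥(chevF4.group F) → ℂ) 1 = (((x + 2) * ((x + 2) ^ 3 + 1) ^ 2 * ((x + 2) ^ 4 + 1) : ℕ) : ℂ) := by
    have h6 : VW ((x + 2 : ℕ) : ℂ) (f4 ((x + 2 : ℕ) : ℂ)) ≠ 0 := by
      intro h0
      rw [h0, mul_zero] at e4
      exact hV e4.symm
    have h7 : (2 * (χ4 : ↥(chevF4.group F) → ℂ) 1) * VW ((x + 2 : ℕ) : ℂ) (f4 ((x + 2 : ℕ) : ℂ)) =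
        2 * V ((x + 2 : ℕ) : ℂ) ((x + 2 : ℕ) : ℂ) := by rw [mul_assoc, e4]
    rw [mul_right_cancel₀ h6 (h7.trans g4.symm)]
    push_cast
    ring
  have i2 : 2 * (χ2 : ↥(chevF4.group F) → ℂ) 1 = (((x + 2) * ((x + 2) ^ 2 + 1) * ((x + 2) ^ 4 + 1) *
      ((x + 2) ^ 2 * ((x + 1) * (x + 3)) + 1) : ℕ) : ℂ) := by
    have h6 : VW ((x + 2 : ℕ) : ℂ) (f2 ((x + 2 : ℕ) : ℂ)) ≠ 0 := by
      intro h0
      rw [h0, mul_zero] at e2
      exact hV e2.symm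
    have h7 : (2 * (χ2 : ↥(chevF4.group F) → ℂ) 1) * VW ((x + 2 : ℕ) : ℂ) (f2 ((x + 2 : ℕ) : ℂ)) =
        2 * V ((x + 2 : ℕ) : ℂ) ((x + 2 : ℕ) : ℂ) := by rw [mul_assoc, e2]
    rw [mul_right_cancel₀ h6 (h7.trans g2.symm)]
    push_cast
    ring
  obtain ⟨d9, -, hd9⟩ := isIrr_apply_one χ9.2
  obtain ⟨d8, -, hd8⟩ := isIrr_apply_one χ8.2
  obtain ⟨d4, -, hd4⟩ := isIrr_apply_one χ4.2
  obtain ⟨d2, -, hd2⟩ := isIrr_apply_one χ2.2
  have j9 : d9 = (x + 2) ^ 2 * ((x + 2) ^ 4 + (x + 2) ^ 2 + 1) ^ 2 * ((x + 2) ^ 2 * ((x + 1) * (x + 3)) + 1) := by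
    rw [hd9] at i9; exact_mod_cast i9
  have j8 : d8 = (x + 2) ^ 3 * ((x + 2) ^ 2 + 1) ^ 2 * ((x + 2) ^ 4 + 1) * ((x + 2) ^ 2 * ((x + 1) * (x + 3)) + 1) := by
    rw [hd8] at i8; exact_mod_cast i8
  have j4 : 2 * d4 = (x + 2) * ((x + 2) ^ 3 + 1) ^ 2 * ((x + 2) ^ 4 + 1) := by
    rw [hd4] at i4; exact_mod_cast i4
  have j2 : 2 * d2 = (x + 2) * ((x + 2) ^ 2 + 1) * ((x + 2) ^ 4 + 1) * ((x + 2) ^ 2 * ((x + 1) * (x + 3)) + 1) := by
    rw [hd2] at i2; exact_mod_cast i2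
  -- the degrees are distinct
  have k2 : 1 < d2 := by
    have : 2 * d2 = 2208 + 11793*x + 28912*x^2 + 42840*x^3 + 42530*x^4 + 29653*x^5 + 14798*x^6 + 5281*x^7 + 1320*x^8 +
        220*x^9 + 22*x^10 + 1*x^11 + 2 := by rw [j2]; ring
    omega
  have k4 : d2 < d4 := by
    have : 2 * d4 = 2 * d2 + (544 + 2112*x + 3632*x^2 + 3600*x^3 + 2242*x^4 + 896*x^5 + 224*x^6 + 32*x^7 + 2*x^8) := by
      rw [j2, j4]; ring
    omega
  have k9 : d4 < d9 := by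
    have : 2 * d9 = 2 * d4 + (43110 + 287991*x + 898770*x^2 + 1735464*x^3 + 2314958*x^4 + 2255451*x^5 + 1654454*x^6 +
        927839*x^7 + 399624*x^8 + 131508*x^9 + 32542*x^10 + 5871*x^11 + 730*x^12 + 56*x^13 + 2*x^14) := by
      rw [j4, j9]; ring
    omega
  have k8 : d9 < d8 := by
    have : d8 = d9 + (21268 + 164472*x + 592381*x^2 + 1319185*x^3 + 2032329*x^4 + 2295229*x^5 + 1963612*x^6 +
        1296177*x^7 + 665747*x^8 + 266118*x^9 + 82124*x^10 + 19217*x^11 + 3301*x^12 + 393*x^13 + 29*x^14 + 1*x^15) := by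
      rw [j8, j9]; ring
    omega
  have hne : ∀ {χ ψ : IrrCharacter ↥(chevF4.group F)} {a b : ℕ}, (χ : ↥(chevF4.group F) → ℂ) 1 = a →
      (ψ : ↥(chevF4.group F) → ℂ) 1 = b → a ≠ b → χ ≠ ψ := by
    intro χ ψ a b ha hb hab h
    subst h
    rw [ha] at hb
    exact hab (by exact_mod_cast hb)
  have hone : ((oneChar ↥(chevF4.group F) : IrrCharacter _) : ↥(chevF4.group F) → ℂ) 1 = ((1 : ℕ) : ℂ) := by
    rw [Nat.cast_one]
  have hsum : ∑ χ ∈ ({oneChar ↥(chevF4.group F), χ9, χ8, χ4, χ2} : Finset (IrrCharacter ↥(chevF4.group F))),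
      (χ : ↥(chevF4.group F) → ℂ) 1 = (P.index : ℂ) := by
    rw [hidx, hVn]
    have n1 : oneChar ↥(chevF4.group F) ∉ ({χ9, χ8, χ4, χ2} : Finset (IrrCharacter ↥(chevF4.group F))) := by
      simp only [Finset.mem_insert, Finset.mem_singleton, not_or]
      exact ⟨hne hone hd9 (by omega), hne hone hd8 (by omega), hne hone hd4 (by omega), hne hone hd2 (by omega)⟩
    have n9 : χ9 ∉ ({χ8, χ4, χ2} : Finset (IrrCharacter ↥(chevF4.group F))) := by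
      simp only [Finset.mem_insert, Finset.mem_singleton, not_or]
      exact ⟨hne hd9 hd8 (by omega), hne hd9 hd4 (by omega), hne hd9 hd2 (by omega)⟩
    have n8 : χ8 ∉ ({χ4, χ2} : Finset (IrrCharacter ↥(chevF4.group F))) := by
      simp only [Finset.mem_insert, Finset.mem_singleton, not_or]
      exact ⟨hne hd8 hd4 (by omega), hne hd8 hd2 (by omega)⟩
    have n4 : χ4 ∉ ({χ2} : Finset (IrrCharacter ↥(chevF4.group F))) := by
      simp only [Finset.mem_singleton]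
      exact hne hd4 hd2 (by omega)
    rw [Finset.sum_insert n1, Finset.sum_insert n9, Finset.sum_insert n8, Finset.sum_insert n4, Finset.sum_singleton,
      hone, hd9, hd8, hd4, hd2]
    have h7 : 2 * (1 + (d9 + (d8 + (d4 + d2)))) = 2 * ((1 + (x + 2)) * (1 + (x + 2) ^ 2) * (1 + (x + 2) ^ 4) *
        ((x + 2) ^ 8 + (x + 2) ^ 4 + 1)) := by
      calc 2 * (1 + (d9 + (d8 + (d4 + d2)))) = 2 + 2 * d9 + 2 * d8 + 2 * d4 + 2 * d2 := by ring
        _ = _ := by rw [j9, j8, j4, j2]; ring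
    have h8 := Nat.eq_of_mul_eq_mul_left (by norm_num) h7
    rw [← h8]
    push_cast
    ring
  obtain ⟨t1, t2⟩ := md_of_sum P _ (fun χ hχ => by
    simp only [Finset.mem_insert, Finset.mem_singleton] at hχ
    rcases hχ with rfl | rfl | rfl | rfl | rfl
    · rw [md_one]; exact one_ne_zero
    · exact m9
    · exact m8
    · exact m4
    · exact m2) hsum
  have hcd : ∀ {χ : IrrCharacter ↥(chevF4.group F)} {a : ℕ}, (χ : ↥(chevF4.group F) → ℂ) 1 = a →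
      charDegree (χ : ↥(chevF4.group F) → ℂ) = a := by
    intro χ a ha
    exact Cfsg.Agent.Blocks.Basic.charDegree_of_eq ha
  refine ⟨P, χ9, d8, d4, d2, ?_, i9, t1 χ9 (by simp), j8, j4, j2, fun χ hχ => ?_⟩
  · rw [hVn] at hidx
    exact_mod_cast hidx
  · have h9 := t2 χ hχ
    simp only [Finset.mem_insert, Finset.mem_singleton] at h9
    rcases h9 with rfl | rfl | rfl | rfl | rfl
    · exact Or.inl rfl
    · exact Or.inr (Or.inl rfl)
    · exact Or.inr (Or.inr (Or.inl (hcd hd8)))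
    · exact Or.inr (Or.inr (Or.inr (Or.inl (hcd hd4))))
    · exact Or.inr (Or.inr (Or.inr (Or.inr (hcd hd2))))

/-- **`F₄(q)`, `q` odd, and a prime dividing `q² + 1` or `q⁸ + q⁴ + 1`.** -/
theorem evAt_of_dvd (F : Type) [Field F] [Fintype F] (ho : Odd (Fintype.card F)) {p : ℕ} [Fact p.Prime] (hp : p ≠ 2)
    (h : p ∣ Fintype.card F ^ 2 + 1 ∨ p ∣ Fintype.card F ^ 8 + Fintype.card F ^ 4 + 1) :
    EvAt p ↥(chevF4.group F) := by
  intro M hM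
  have hfg : Finite ↥(chevF4.group F) := ExcRows.finite_group (K := F) chevF4
  have hpp : p.Prime := Fact.out
  obtain ⟨x, hx⟩ : ∃ x, Fintype.card F = x + 2 := by
    have := Fintype.one_lt_card (α := F)
    exact ⟨Fintype.card F - 2, by omega⟩
  obtain ⟨P, χ₀, d8, d4, d2, hidx, h0, hm, e8, e4, e2, hall⟩ := perm_F4 F hx
  rw [hx] at h ho
  -- parity
  obtain ⟨k, hk⟩ := ho
  have o8 : 2 ∣ d8 := by
    rw [e8]
    have : 2 ∣ (x + 2) ^ 2 + 1 := ⟨2 * k ^ 2 + 2 * k + 1, by rw [hk]; ring⟩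
    exact Dvd.dvd.mul_right (Dvd.dvd.mul_right (Dvd.dvd.mul_left (Dvd.dvd.pow this (by norm_num)) _) _) _
  have o4 : 2 ∣ d4 := by
    obtain ⟨a, ha⟩ : ∃ a, (x + 2) ^ 3 + 1 = 2 * a := ⟨4 * k ^ 3 + 6 * k ^ 2 + 3 * k + 1, by rw [hk]; ring⟩
    refine ⟨(x + 2) * a ^ 2 * ((x + 2) ^ 4 + 1), ?_⟩
    have : 2 * d4 = 2 * (2 * ((x + 2) * a ^ 2 * ((x + 2) ^ 4 + 1))) := by
      rw [e4, ha]; ring
    omega
  have o2 : 2 ∣ d2 := by
    obtain ⟨a, ha⟩ : ∃ a, (x + 2) ^ 2 + 1 = 2 * a := ⟨2 * k ^ 2 + 2 * k + 1, by rw [hk]; ring⟩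
    obtain ⟨b, hb⟩ : ∃ b, (x + 2) ^ 4 + 1 = 2 * b := ⟨8 * k ^ 4 + 16 * k ^ 3 + 12 * k ^ 2 + 4 * k + 1, by rw [hk]; ring⟩
    refine ⟨(x + 2) * a * b * ((x + 2) ^ 2 * ((x + 1) * (x + 3)) + 1), ?_⟩
    have : 2 * d2 = 2 * (2 * ((x + 2) * a * b * ((x + 2) ^ 2 * ((x + 1) * (x + 3)) + 1))) := by
      rw [e2, ha, hb]; ring
    omega
  refine exists_even hM P ?_ χ₀ h0 hm ?_ fun χ hχ => ?_
  · rw [hidx]
    rcases h with h | h
    · rw [add_comm _ 1] at h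
      exact Dvd.dvd.mul_right (Dvd.dvd.mul_right (Dvd.dvd.mul_left h _) _) _
    · exact Dvd.dvd.mul_left h _
  · rcases h with h | h
    · intro h1
      -- `D + 3` is divisible by `q² + 1`
      have h2 : p ∣ (x + 2) ^ 2 * ((x + 2) ^ 4 + (x + 2) ^ 2 + 1) ^ 2 * ((x + 2) ^ 2 * ((x + 1) * (x + 3)) + 1) + 3 := by
        have h3 : (((x + 2) ^ 2 * ((x + 2) ^ 4 + (x + 2) ^ 2 + 1) ^ 2 * ((x + 2) ^ 2 * ((x + 1) * (x + 3)) + 1) + 3 : ℕ) : ℤ) =
            (((x : ℤ) + 2) ^ 2 + 1) * (((x : ℤ) + 2) ^ 12 + 2 * ((x : ℤ) + 2) ^ 8 - ((x : ℤ) + 2) ^ 6 +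
              3 * ((x : ℤ) + 2) ^ 4 - 2 * ((x : ℤ) + 2) ^ 2 + 3) := by
          push_cast
          ring
        have h4 : (p : ℤ) ∣ ((x : ℤ) + 2) ^ 2 + 1 := by exact_mod_cast h
        have h5 : (p : ℤ) ∣ (((x + 2) ^ 2 * ((x + 2) ^ 4 + (x + 2) ^ 2 + 1) ^ 2 * ((x + 2) ^ 2 * ((x + 1) * (x + 3)) + 1) + 3 : ℕ) : ℤ) := by
          rw [h3]
          exact Dvd.dvd.mul_right h4 _
        exact_mod_cast h5
      have h6 : p ∣ 2 := by
        have h7 := Nat.dvd_sub h2 h1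
        have h8 : ∀ y : ℕ, y + 3 - (y + 1) = 2 := fun y => by omega
        rwa [h8] at h7
      exact hp ((Nat.prime_dvd_prime_iff_eq hpp Nat.prime_two).1 h6)
    · intro h1
      have h2 : p ∣ (x + 2) ^ 2 * ((x + 2) ^ 4 + (x + 2) ^ 2 + 1) ^ 2 * ((x + 2) ^ 2 * ((x + 1) * (x + 3)) + 1) := by
        refine h.trans ⟨(x + 2) ^ 2 * ((x + 2) ^ 4 + (x + 2) ^ 2 + 1), ?_⟩
        ring
      have h6 : p ∣ 1 := by
        have h7 := Nat.dvd_sub h1 h2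
        have h8 : ∀ y : ℕ, y + 1 - y = 1 := fun y => by omega
        rwa [h8] at h7
      exact hpp.one_lt.ne' (Nat.dvd_one.1 h6)
  · rcases hall χ hχ with h1 | h1 | h1 | h1 | h1
    · exact Or.inl h1
    · exact Or.inr (Or.inl h1)
    · exact Or.inr (Or.inr (by rw [h1]; exact o8))
    · exact Or.inr (Or.inr (by rw [h1]; exact o4))
    · exact Or.inr (Or.inr (by rw [h1]; exact o2))

/-- **`F₄(q)` and a prime dividing `q⁴ + 1`.** -/
theorem evAt_of_dvd8 (F : Type) [Field F] [Fintype F] {p : ℕ} [Fact p.Prime] (hp : p ≠ 2)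
    (h : p ∣ Fintype.card F ^ 4 + 1) : EvAt p ↥(chevF4.group F) := by
  have hfg : Finite ↥(chevF4.group F) := ExcRows.finite_group (K := F) chevF4
  have hpp : p.Prime := Fact.out
  set q := Fintype.card F with hq
  have hq2 : 2 ≤ q := Fintype.one_lt_card (α := F)
  have hpq : ¬ p ∣ q := by
    intro h1
    have h2 : p ∣ 1 := (Nat.dvd_add_right (Dvd.dvd.pow h1 (by norm_num : (4 : ℕ) ≠ 0))).1 h
    exact hpp.one_lt.ne' (Nat.dvd_one.1 h2)
  -- the order of `q` is 8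
  have hz : ((q : ℕ) : ZMod p) ^ 4 = -1 := by
    have h1 : ((q ^ 4 + 1 : ℕ) : ZMod p) = 0 := (ZMod.natCast_eq_zero_iff _ _).2 h
    push_cast at h1
    exact eq_neg_of_add_eq_zero_left h1
  have h11 : (-1 : ZMod p) ≠ 1 := by
    have : Fact (2 < p) := ⟨lt_of_le_of_ne hpp.two_le (Ne.symm hp)⟩
    exact ZMod.neg_one_ne_one
  have hord : orderOf ((q : ℕ) : ZMod p) = 8 := by
    have h1 : orderOf ((q : ℕ) : ZMod p) = 2 ^ (2 + 1) := by
      refine orderOf_eq_prime_pow ?_ ?_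
      · rw [show 2 ^ 2 = 4 by norm_num, hz]
        exact h11
      · rw [show 2 ^ (2 + 1) = 4 * 2 by norm_num, pow_mul, hz]
        norm_num
    rw [h1]
    norm_num
  -- `p ≠ 3`
  have hp3 : p ≠ 3 := by
    intro h3
    subst h3
    have h5 := ZMod.orderOf_dvd_card_sub_one (p := 3) (a := ((q : ℕ) : ZMod 3)) (by
      intro h0
      exact hpq ((ZMod.natCast_eq_zero_iff _ _).1 h0))
    rw [hord] at h5
    norm_num at h5
  have hW : ¬ p ∣ [2, 6, 8, 12].prod := by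
    have h1 : ([2, 6, 8, 12] : List ℕ).prod = 2 ^ 7 * 3 ^ 2 := by norm_num
    rw [h1]
    intro h2
    rcases (Nat.Prime.dvd_mul hpp).1 h2 with h3 | h3
    · exact hp ((Nat.prime_dvd_prime_iff_eq hpp Nat.prime_two).1 (hpp.dvd_of_dvd_pow h3))
    · exact hp3 ((Nat.prime_dvd_prime_iff_eq hpp Nat.prime_three).1 (hpp.dvd_of_dvd_pow h3))
  have hG : p ∣ Nat.card ↥(chevF4.group F) := by
    rw [Cfsg.Agent.S1062.result hq.symm]
    have h1 : q ^ 8 - 1 = (q ^ 4 + 1) * (q ^ 4 - 1) := by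
      have := Nat.sq_sub_sq (q ^ 4) 1
      rw [← pow_mul] at this
      simpa using this
    rw [h1]
    exact Dvd.dvd.mul_right (Dvd.dvd.mul_left (Dvd.dvd.mul_right h _) _) _
  have hcyc : ∀ P : Sylow p ↥(chevF4.group F), IsCyclic (P : Subgroup ↥(chevF4.group F)) := by
    intro P
    obtain ⟨e⟩ := Cfsg.Agent.S2378.result hq.symm (chevF4, [2, 6, 8, 12]) (by simp) p hpq hW hG P
    rw [hord] at e
    have h1 : (([2, 6, 8, 12] : List ℕ).filter fun e => 8 ∣ e).length = 1 := by decide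
    have h2 : ((chevF4, ([2, 6, 8, 12] : List ℕ)).2.filter fun e => 8 ∣ e).length = 1 := h1
    rw [h2] at e
    let e2 := e.trans (MulEquiv.funUnique (Fin 1) _)
    exact isCyclic_of_surjective e2.symm.toMonoidHom e2.symm.surjective
  obtain ⟨z, hz⟩ := exists_prime_orderOf_dvd_card' p hG
  obtain ⟨P⟩ : Nonempty (Sylow p ↥(chevF4.group F)) := inferInstance
  obtain ⟨z, hzP, hz⟩ : ∃ z ∈ (P : Subgroup ↥(chevF4.group F)), orderOf z = p := by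
    obtain ⟨y, hy⟩ := exists_prime_orderOf_dvd_card' (G := (P : Subgroup ↥(chevF4.group F))) p (P.dvd_card_of_dvd_card hG)
    exact ⟨y, y.2, (Subgroup.orderOf_coe y).trans hy⟩
  obtain ⟨y, hy⟩ := Cfsg.Agent.H720.SylInv.F4 hq.symm hpq hW P
  exact evAt_of_real_cyclic hp hcyc hz (isConj_iff.2 ⟨y, hy z hzP⟩)

/-- **REST-F4.** -/
theorem rest_f4 (F : Type) [Field F] [Fintype F] (ho : Odd (Fintype.card F)) (p : ℕ) [Fact p.Prime] (hp : p ≠ 2)
    (h0 : ¬ p ∣ Fintype.card F) (h : ∀ d ∈ [1, 2, 3], ¬ p ∣ Fintype.card F ^ d - 1)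
    (hd : p ∣ Nat.card ↥(Lie.chevF4.group F)) : EvAt p ↥(Lie.chevF4.group F) := by
  have hpp : p.Prime := Fact.out
  set q := Fintype.card F with hq
  have hq2 : 2 ≤ q := Fintype.one_lt_card (α := F)
  have g2 : ¬ p ∣ q ^ 2 - 1 := h 2 (by simp)
  have g3 : ¬ p ∣ q ^ 3 - 1 := h 3 (by simp)
  obtain ⟨x, hx⟩ : ∃ x, q = x + 2 := ⟨q - 2, by omega⟩
  rw [Cfsg.Agent.S1062.result hq.symm] at hd
  have f6 : q ^ 6 - 1 = (q ^ 3 - 1) * (q ^ 3 + 1) := by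
    have := Nat.sq_sub_sq (q ^ 3) 1
    rw [← pow_mul] at this
    rw [mul_comm]
    simpa using this
  have f8 : q ^ 8 - 1 = (q ^ 2 - 1) * ((q ^ 2 + 1) * (q ^ 4 + 1)) := by
    rw [hx]
    have e1 : (x + 2) ^ 2 - 1 = (x + 1) * (x + 3) := by apply Nat.sub_eq_of_eq_add; ring
    rw [e1]
    apply Nat.sub_eq_of_eq_add
    ring
  have f12 : q ^ 12 - 1 = (q ^ 2 - 1) * ((q ^ 2 + 1) * (q ^ 8 + q ^ 4 + 1)) := by
    rw [hx]
    have e1 : (x + 2) ^ 2 - 1 = (x + 1) * (x + 3) := by apply Nat.sub_eq_of_eq_add; ring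
    rw [e1]
    apply Nat.sub_eq_of_eq_add
    ring
  have key : p ∣ q ^ 2 + 1 ∨ p ∣ q ^ 8 + q ^ 4 + 1 ∨ p ∣ q ^ 4 + 1 := by
    have h3 : p ∣ q ^ 3 + 1 → p ∣ q ^ 8 + q ^ 4 + 1 := by
      intro h3
      have h4 : ¬ p ∣ q + 1 := by
        intro h5
        apply g2
        have : q ^ 2 - 1 = (q + 1) * (q - 1) := by
          have := Nat.sq_sub_sq q 1
          simpa using this
        rw [this]
        exact Dvd.dvd.mul_right h5 _
      have h5 : q ^ 3 + 1 = (q + 1) * (q * (q - 1) + 1) := by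
        rw [hx]
        have : x + 2 - 1 = x + 1 := by omega
        rw [this]
        ring
      rw [h5] at h3
      have h6 := (hpp.dvd_mul.1 h3).resolve_left h4
      refine h6.trans ⟨(q ^ 2 + q + 1) * (q ^ 2 * (q ^ 2 - 1) + 1), ?_⟩
      rw [hx]
      have e1 : (x + 2) ^ 2 - 1 = (x + 1) * (x + 3) := by apply Nat.sub_eq_of_eq_add; ring
      have e2 : x + 2 - 1 = x + 1 := by omega
      rw [e1, e2]
      ring
    rcases hpp.dvd_mul.1 hd with h1 | h1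
    · rcases hpp.dvd_mul.1 h1 with h1 | h1
      · rcases hpp.dvd_mul.1 h1 with h1 | h1
        · rcases hpp.dvd_mul.1 h1 with h1 | h1
          · exact absurd (hpp.dvd_of_dvd_pow h1) h0
          · exact absurd h1 g2
        · rw [f6] at h1
          exact Or.inr (Or.inl (h3 ((hpp.dvd_mul.1 h1).resolve_left g3)))
      · rw [f8] at h1
        rcases hpp.dvd_mul.1 ((hpp.dvd_mul.1 h1).resolve_left g2) with h1 | h1
        · exact Or.inl h1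
        · exact Or.inr (Or.inr h1)
    · rw [f12] at h1
      rcases hpp.dvd_mul.1 ((hpp.dvd_mul.1 h1).resolve_left g2) with h1 | h1
      · exact Or.inl h1
      · exact Or.inr (Or.inl h1)
  rcases key with h1 | h1 | h1
  · exact evAt_of_dvd F ho hp (Or.inl h1)
  · exact evAt_of_dvd F ho hp (Or.inr h1)
  · exact evAt_of_dvd8 F hp h1

end perm

end Cfsg.Agent.H164.EP
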